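import Groth.Agent.S10398
import Groth.Agent.Lib.AlgSpace.QCQS
import Groth.Agent.Lib.AlgSpace.Sub
import Groth.Agent.Lib.AlgSpDecent.Basic2
import Groth.Agent.Lib.AlgSpRel14.Chart
import Groth.Agent.Lib.AlgSpDecent.ZeroDim
import Groth.Agent.Lib.AlgSpDescent.MonoLft

/-!
# Finite fibres over points of codimension zero
-/

universe u

set_option backward.isDefEq.respectTransparency.types false

open CategoryTheory CategoryTheory.Limits AlgebraicGeometry AlgSp Opposite Topology

namespace Groth.Agent.FiniteCodim15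

open Groth.Agent.AlgSpace Groth.Agent.AlgSpDecent Groth.Agent.AlgSpRel14

variable {S : Scheme.{u}}

/-- Finite morphisms have finite fibres on points. -/
theorem finite_fibre_of_isFiniteMor {X Y : Sp S} {f : X ⟶ Y} (hf : IsFiniteMor f) (y : Points Y) :
    (Points.map f ⁻¹' {y}).Finite := by
  induction y using Points.ind with
  | h p =>
    obtain ⟨W, i, fst, sq, -, hi⟩ := hf (Z := p.pt)
      (inferInstanceAs (IsAffine (Spec (CommRingCat.of p.K)))) p.toHom
    have : Finite W.left := by
      have hc : Subsingleton ↥p.pt.left := inferInstanceAs (Subsingleton (PrimeSpectrum p.K))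
      have := (i.left.finite_preimage_singleton (IsLocalRing.closedPoint p.K)).to_subtype
      exact Finite.of_injective
        (fun w => (⟨w, Subsingleton.elim _ _⟩ : i.left ⁻¹' {IsLocalRing.closedPoint p.K}))
        fun a b e => congrArg Subtype.val e
    refine (Set.finite_range (Points.ofPt fst)).subset fun x hx => ?_
    obtain ⟨z, hz⟩ := exists_map_toHom_eq p
    obtain ⟨w, hw, -⟩ := exists_point_lift sq x z (hx.trans hz.symm)
    obtain ⟨t, rfl⟩ := (Points.schemeEquiv W).surjective w
    exact ⟨t, (Points.ofPt_eq_map_ofScheme fst t).trans hw⟩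

/-- Quasi-finiteness of charts at the points over a point with finite fibre. -/
theorem hasAtMor_lqf {X Y : Space S} (f : X ⟶ Y) (hX : IsDecent X.obj)
    (hft : LocP @LocallyOfFiniteType f.hom) (y : Points Y.obj)
    (hfin : (Points.map f.hom ⁻¹' {y}).Finite) (x : Points X.obj) (hx : Points.map f.hom x = y) :
    HasAtMor (fun U _ h u => ∃ W : U.Opens, u ∈ W ∧ LocallyQuasiFinite (W.ι ≫ h) ∧
      LocallyOfFiniteType (W.ι ≫ h)) f.hom x := by
  obtain ⟨U, V, a, b, h, u, hae, hbe, w, rfl⟩ := exists_diagram X.property Y.property f.hom x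
  have : LocallyOfFiniteType h.left := hft a b h hae hbe w
  obtain ⟨O, hO, huO, -⟩ := exists_isAffineOpen_mem_and_subset (X := U.left) (x := u) (U := ⊤) trivial
  let o : Over.mk (O.ι ≫ U.hom) ⟶ U := Over.homMk O.ι rfl
  let g : O.toScheme ⟶ V.left := O.ι ≫ h.left
  have : Finite (g ⁻¹' {g ⟨u, huO⟩}) := by
    refine Set.Finite.to_subtype ((Set.Finite.biUnion hfin fun x' _ =>
      finFibres_of_isDecent X.property.diag hX x' (Over.mk (O.ι ≫ U.hom)) ((yon S).map o ≫ a) hO
        (repWith_etale_restrict hae O)).subset ?_)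
    intro t ht
    refine Set.mem_biUnion (x := Points.ofPt ((yon S).map o ≫ a) t) ?_ rfl
    show Points.map f.hom _ = y
    rw [Points.map_ofPt, Category.assoc, w, ofPt_map_comp, ← hx, Points.map_ofPt, w, ofPt_map_comp,
      ofPt_map_comp]
    exact congrArg (Points.ofPt b) ht
  have : Finite (g.fiber (g ⟨u, huO⟩)) := (g.fiberHomeo _).finite_iff.mpr this
  have hq : g.QuasiFiniteAt ⟨u, huO⟩ :=
    Scheme.Hom.quasiFiniteAt_iff_isOpen_singleton_asFiber.mpr (isOpen_discrete _)
  have hu : h.left.QuasiFiniteAt u := Scheme.Hom.quasiFiniteAt_comp_iff_of_isOpenImmersion.mp hq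
  refine ⟨U, V, a, b, h, u, hae, hbe, w, rfl, ⟨_, h.left.quasiFiniteLocus.isOpen⟩, hu, ?_, inferInstance⟩
  rw [← Scheme.Hom.quasiFiniteLocus_eq_top_iff]
  ext t
  exact ⟨fun _ => trivial, fun _ => Scheme.Hom.quasiFiniteAt_comp_iff_of_isOpenImmersion.mpr t.2⟩

/-- A finite set of points lies in a quasi-compact open subspace. -/
theorem exists_qc_open (X : Space S) {F : Set (Points X.obj)} (hF : F.Finite) :
    ∃ (X' : Space S) (i : X' ⟶ X), RepWith @IsOpenImmersion i.hom ∧ IsQuasiCompactSp X'.obj ∧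
      F ⊆ Set.range (Points.map i.hom) := by
  obtain ⟨A, q, hqe, hqs⟩ := X.property.atlas
  choose t ht using fun x : Points X.obj => surjective_ofPt hqs x
  choose O hO htO _ using fun x : Points X.obj =>
    exists_isAffineOpen_mem_and_subset (X := A.left) (x := t x) (U := ⊤) trivial
  let G : Set (Points X.obj) := ⋃ x ∈ F, Points.ofPt q '' (O x : Set A.left)
  have hG : IsOpen G := isOpen_biUnion fun x _ => isOpenMap_ofPt q hqe _ (O x).isOpen
  have hGc : IsCompact G :=
    hF.isCompact_biUnion fun x _ => (hO x).isCompact.image (Points.continuous_ofPt q)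
  have hι := repWith_openSubι hG
  have hX' : IsAlgSpace (openSub G) := isAlgSpace_of_representable hι.1 X.property
  refine ⟨⟨openSub G, hX'⟩, ObjectProperty.homMk (openSubι G), hι, ?_, ?_⟩
  · refine (isQuasiCompactSp_iff hX').2 ⟨?_⟩
    have he := isEmbedding_map_of_immersion X.property
      (repWith_mono (fun _ _ j (_ : IsOpenImmersion j) => inferInstanceAs (IsImmersion j)) hι)
    rw [he.1.isCompact_iff, Set.image_univ, range_openSubι]
    exact hGc
  · exact fun x hx => (range_openSubι G).ge (Set.mem_biUnion hx ⟨t x, htO x, ht x⟩)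

theorem finite_iff [QuasiSeparatedSpace ↥S] {X Y : Space S} (f : X ⟶ Y)
    (hqs : IsQuasiSeparatedMor f.hom) (hft : LocP @LocallyOfFiniteType f.hom)
    (hY : IsQuasiSeparatedSp Y.obj) (y : Points Y.obj)
    (hy : HasAt (fun U u => ringKrullDim ↥(U.presheaf.stalk u) = 0) Y.obj y) :
    (Points.map f.hom ⁻¹' {y}).Finite ↔
      ∃ (X' Y' : Space S) (i : X' ⟶ X) (j : Y' ⟶ Y) (f' : X' ⟶ Y'), RepWith @IsOpenImmersion i.hom ∧
        RepWith @IsOpenImmersion j.hom ∧ f' ≫ j = i ≫ f ∧ y ∈ Set.range (Points.map j.hom) ∧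
          Points.map f.hom ⁻¹' {y} ⊆ Set.range (Points.map i.hom) ∧ IsFiniteMor f'.hom := by
  constructor
  · intro hfin
    obtain ⟨X'', i₀, hi₀, hc, hcov⟩ := exists_qc_open X hfin
    have : Mono i₀.hom := mono_of_isImmersion (repWith_mono (fun _ _ g (_ : IsOpenImmersion g) => inferInstanceAs (IsImmersion g)) hi₀)
    have hXqs : IsQuasiSeparatedSp X.obj := isQuasiSeparatedSp_of_mor hqs hY
    have hiqs : IsQuasiSeparatedMor i₀.hom :=
      MorphismProperty.of_isIso (RepWith (S := S) @QuasiCompact) (pullback.diagonal i₀.hom)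
    have hX''qs : IsQuasiSeparatedSp X''.obj := isQuasiSeparatedSp_of_mor hiqs hXqs
    have hlft : LocP @LocallyOfFiniteType (i₀ ≫ f).hom :=
      locP_comp X''.property X.property Y.property
        (locP_of_repWith X.property
          (repWith_mono (fun _ _ g (_ : IsOpenImmersion g) => inferInstanceAs (LocallyOfFiniteType g)) hi₀)) hft
    have hfin'' : (Points.map (i₀ ≫ f).hom ⁻¹' {y}).Finite := by
      refine (hfin.preimage (injective_map_of_mono i₀.hom).injOn).subset fun x hx => ?_
      exact (Points.map_comp i₀.hom f.hom x).symm.trans hx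
    obtain ⟨Y', X', j, fst, snd, hj, hyj, sq, hfm⟩ := Groth.Agent.S10398.result (i₀ ≫ f)
      (isQuasiSeparatedMor_of_sp _ hX''qs) ⟨hlft, isQuasiCompactMor_of_qc_qs X''.property Y.property _ hc hY⟩
      y hy (hasAtMor_lqf _ (isDecent_of_isQuasiSeparatedSp X''.property hX''qs) hlft y hfin'')
    refine ⟨X', Y', snd ≫ i₀, j, fst,
      repWith_comp ((RepWith (S := S) @IsOpenImmersion).of_isPullback sq hj) hi₀, hj,
      ObjectProperty.hom_ext _ (by simpa [Category.assoc] using sq.w), hyj, fun x hx => ?_, hfm⟩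
    obtain ⟨x'', hx''⟩ := hcov hx
    obtain ⟨x', hx'⟩ := mem_range_map_fst sq.flip x'' (by
      show Points.map (i₀.hom ≫ f.hom) x'' ∈ _
      rw [Points.map_comp, hx'', show Points.map f.hom x = y from hx]
      exact hyj)
    exact ⟨x', by rw [show (snd ≫ i₀).hom = snd.hom ≫ i₀.hom from rfl, Points.map_comp, hx', hx'']⟩
  · rintro ⟨X', Y', i, j, f', -, hj, w, ⟨y', hy'⟩, hcov, hfm⟩
    have : Mono j.hom := mono_of_isImmersion (repWith_mono (fun _ _ g (_ : IsOpenImmersion g) => inferInstanceAs (IsImmersion g)) hj)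
    refine ((finite_fibre_of_isFiniteMor hfm y').image (Points.map i.hom)).subset fun x hx => ?_
    obtain ⟨x', hx'⟩ := hcov hx
    refine ⟨x', injective_map_of_mono j.hom ?_, hx'⟩
    rw [← Points.map_comp, hy', show f'.hom ≫ j.hom = i.hom ≫ f.hom from congrArg (·.hom) w,
      Points.map_comp, hx']
    exact hx

end Groth.Agent.FiniteCodim15
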